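import Groth.Agent.Lib.RgZ9.Algebra
import Groth.Agent.Lib.DGam9.Basic
import Groth.Agent.Lib.DGen9.Spec
import Groth.Agent.Lib.DGen9.Basics
import Groth.Agent.Lib.PunctFree27.Scheme
import Groth.Agent.Lib.DPush.QCoh
import Groth.Agent.Lib.DQC.Pull

/-!
The extended Čech complex computes derived sections with supports on an affine scheme.
-/

set_option autoImplicit false
set_option linter.unusedSectionVars false
set_option linter.style.haveILetI false
set_option backward.isDefEq.respectTransparency false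
set_option backward.isDefEq.respectTransparency.types false

universe u

open CategoryTheory CategoryTheory.Limits AlgebraicGeometry

attribute [local instance] HasDerivedCategory.standard

namespace Groth.Agent.RgZ9

variable {A : Type u} [CommRing A]

local notation "R₀" => CommRingCat.of A

theorem torsAll_iff (fs : List A) (M : Dual.D A) :
    TorsAll fs M ↔ IsZero ((DPerf.resD (LocCoh.puncturedOpen A (Ideal.span {a | a ∈ fs})).ι).obj
      ((DPerf.tildeDD R₀).obj M)) := by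
  let U := LocCoh.puncturedOpen A (Ideal.span {a | a ∈ fs})
  have hU : ∀ x : Spec R₀, x ∈ U ↔ ∃ a ∈ fs, x ∈ M1.bo (R := R₀) a := fun x => by
    show ¬ (Ideal.span {a | a ∈ fs} : Set A) ⊆ x.asIdeal ↔ _
    rw [SetLike.coe_subset_coe, Ideal.span_le, Set.not_subset]
    rfl
  constructor
  · intro h
    refine DGen9.isZero_resD_of_suppOn U.ι (T := (U : Set (Spec R₀))ᶜ) (fun i x hx hxU => ?_)
      fun u hu => hu u.2
    obtain ⟨a, ha, hxa⟩ := (hU x).1 hxU
    exact (DGen9.tors_iff_support (R := R₀) a M i).1 ((DGen9.tors_iff a M i).2 fun m => h a ha i m) x hxa hx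
  · intro h a ha i m
    refine (DGen9.tors_iff a M i).1 ((DGen9.tors_iff_support (R := R₀) a M i).2 fun x hxa hx => ?_) m
    exact (DGen9.suppOn_of_isZero_resD U.ι h i hx) (by rw [Scheme.Opens.range_ι]; exact (hU x).2 ⟨a, ha, hxa⟩)

/-- The extended Čech complex is derived sections with supports. -/
theorem nonempty_cech_iso (fs : List A) (M : ModuleCat.{u} A)
    [CxOX.HasRgammaZ (LocCoh.puncturedOpen A (Ideal.span {a | a ∈ fs})).ι] :
    Nonempty ((DPerf.tildeDD R₀).obj (DRing.toD (DerCA.extCech M fs)) ≅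
      (CxOX.RgammaZ (LocCoh.puncturedOpen A (Ideal.span {a | a ∈ fs})).ι).obj
        ((DPerf.tildeDD R₀).obj (Dual.inD A M))) := by
  let U := LocCoh.puncturedOpen A (Ideal.span {a | a ∈ fs})
  haveI : QuasiCompact U.ι :=
    PunctFree27.quasiCompact_puncturedOpen _ (Submodule.fg_span (List.finite_toSet fs))
  haveI := DBC9.hasRpush U.ι
  let K := (DPerf.tildeDD R₀).obj (Dual.inD A M)
  let X : Dual.D A := DerivedCategory.Q.obj (DerCA.extCech M fs)
  obtain ⟨hG, b, c', hT⟩ := DGam9.exists_triangle U.ι K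
  haveI := M1.tilde_preservesFiniteLimits (R := R₀)
  have hKq : DCoh.IsQCohD K := DQC.isQCohD_obj (R := R₀) _
  have hGq : DCoh.IsQCohD ((CxOX.RgammaZ U.ι).obj K) :=
    DGen9.isQCohD_obj₁ _ hT hKq (DPush.isQCohD_rpush U.ι _ (DQC.isQCohD_resD U.ι hKq))
  obtain ⟨G₀, ⟨eG⟩⟩ := DQC.exists_iso_of_isQCohD _ hGq
  have hG₀ : TorsAll fs G₀ := (torsAll_iff fs G₀).2 (hG.of_iso ((DPerf.resD U.ι).mapIso eG))
  obtain ⟨c, hc⟩ := exists_cech_map M fs
  have hX := torsAll_extCech M fs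
  obtain ⟨a, ha⟩ := (DGam9.bijective_comp_RgammaZToId U.ι ((torsAll_iff fs X).1 hX) K).2
    ((DPerf.tildeDD R₀).map c)
  obtain ⟨g, hg⟩ := (DQC.bijective_map G₀ (Dual.inD A M)).2 (eG.hom ≫ (CxOX.RgammaZToId U.ι).app K)
  obtain ⟨d, hd⟩ := (hc G₀ hG₀).2 g
  simp only at ha hg hd
  obtain ⟨a₀, ha₀⟩ := (DQC.bijective_map X G₀).2 (a ≫ eG.inv)
  simp only at ha₀
  have hga : a₀ ≫ g = c := (DQC.bijective_map X (Dual.inD A M)).1 (by
    show (DPerf.tildeDD R₀).map (a₀ ≫ g) = (DPerf.tildeDD R₀).map c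
    rw [Functor.map_comp, ha₀, hg, Category.assoc, eG.inv_hom_id_assoc, ha])
  have h1 : a₀ ≫ d = 𝟙 X := (hc X hX).1 (by
    show (a₀ ≫ d) ≫ c = 𝟙 X ≫ c
    rw [Category.assoc, hd, hga, Category.id_comp])
  have h2 : d ≫ a₀ = 𝟙 G₀ := (DQC.bijective_map G₀ G₀).1 (by
    show (DPerf.tildeDD R₀).map (d ≫ a₀) = (DPerf.tildeDD R₀).map (𝟙 G₀)
    refine (cancel_mono eG.hom).1 ((DGam9.bijective_comp_RgammaZToId U.ι
      ((torsAll_iff fs G₀).1 hG₀) K).1 ?_)
    show ((DPerf.tildeDD R₀).map (d ≫ a₀) ≫ eG.hom) ≫ _ = ((DPerf.tildeDD R₀).map (𝟙 G₀) ≫ eG.hom) ≫ _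
    rw [Category.assoc, Category.assoc, ← hg, ← Functor.map_comp, ← Functor.map_comp, Category.assoc, hga, hd,
      Category.id_comp])
  exact ⟨(DPerf.tildeDD R₀).mapIso ⟨a₀, d, h1, h2⟩ ≪≫ eG⟩

end Groth.Agent.RgZ9
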