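import Groth.Agent.Lib.DCpl.CechRHom
import Groth.Agent.Lib.ExtCech.Main
import Groth.Agent.Lib.DerNull9.Test

/-!
The extended Čech complex is universal among objects with torsion cohomology, over any ring.
-/

set_option autoImplicit false
set_option linter.unusedSectionVars false
set_option linter.style.haveILetI false
set_option backward.isDefEq.respectTransparency false
set_option backward.isDefEq.respectTransparency.types false

universe u

open CategoryTheory CategoryTheory.Limits CategoryTheory.Pretriangulated

attribute [local instance] HasDerivedCategory.standard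

namespace Groth.Agent.RgZ9

open DCpl

variable {A : Type u} [CommRing A]

/-- Every cohomology class is killed by a power of each element of the list. -/
def TorsAll (fs : List A) (L : Dual.D A) : Prop :=
  ∀ g ∈ fs, ∀ (i : ℤ) (m : Dual.HD A L i), ∃ n : ℕ, g ^ n • m = 0

section Loc

variable (f : A)

/-- Localisation at `f`. -/
noncomputable abbrev T : ModuleCat.{u} A ⥤ ModuleCat.{u} A :=
  ModuleCat.extendScalars.{u, u, u} (algebraMap A (Localization.Away f)) ⋙
    ModuleCat.restrictScalars.{u} (algebraMap A (Localization.Away f))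

/-- The localisation map. -/
noncomputable abbrev η : 𝟭 (ModuleCat.{u} A) ⟶ T f :=
  (ModuleCat.extendRestrictScalarsAdj.{u, u, u} (algebraMap A (Localization.Away f))).unit

theorem preservesHomology_T : (T f).PreservesHomology := by
  let L := ModuleCat.extendScalars.{u, u, u} (algebraMap A (Localization.Away f))
  haveI := ModuleCat.preservesFiniteLimits_extendScalars_of_flat.{u}
    (RingHom.flat_algebraMap_iff.2 (IsLocalization.flat (Localization.Away f) (Submonoid.powers f)))
  haveI : PreservesFiniteColimits L :=
    haveI := (ModuleCat.extendRestrictScalarsAdj.{u, u, u}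
      (algebraMap A (Localization.Away f))).leftAdjoint_preservesColimits.{0, 0}
    inferInstance
  haveI : PreservesFiniteLimits (T f) := comp_preservesFiniteLimits L _
  haveI : PreservesFiniteColimits (T f) := comp_preservesFiniteColimits L _
  exact Functor.preservesHomologyOfExact _

/-- The module underlying a localisation. -/
noncomputable def selfEquiv :
    (ModuleCat.restrictScalars (algebraMap A (Localization.Away f))).obj
      (ModuleCat.of (Localization.Away f) (Localization.Away f)) ≃ₗ[A] Localization.Away f :=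
  { AddEquiv.refl (Localization.Away f) with
    map_smul' := fun a x => (@Algebra.smul_def A (Localization.Away f) _ _ _ a x).symm }

theorem bijective_η {M : ModuleCat.{u} A} (h : FInv M f) : IsIso ((η f).app M) := by
  rw [ConcreteCategory.isIso_iff_bijective]
  refine (Function.Bijective.of_comp_iff' (TensorProduct.congr (selfEquiv f) (LinearEquiv.refl A M)).bijective _).1 ?_
  exact bijective_one_tmul f h

theorem isZero_T {M : ModuleCat.{u} A} (h : ∀ m : M, ∃ n : ℕ, f ^ n • m = 0) : IsZero ((T f).obj M) := by
  rw [ModuleCat.isZero_iff_subsingleton]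
  haveI : Subsingleton (TensorProduct A (Localization.Away f) M) := by
    refine subsingleton_of_forall_eq 0 fun z => ?_
    induction z using TensorProduct.induction_on with
    | zero => rfl
    | add x y hx hy => rw [hx, hy, add_zero]
    | tmul s m =>
      obtain ⟨n, hn⟩ := h m
      obtain ⟨v, hv⟩ := IsLocalization.map_units (Localization.Away f) (⟨f ^ n, n, rfl⟩ : Submonoid.powers f)
      have : s = (f ^ n) • ((↑v⁻¹ : Localization.Away f) * s) := by
        rw [Algebra.smul_def, ← mul_assoc, show algebraMap A (Localization.Away f) (f ^ n) = v from hv.symm,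
          v.mul_inv, one_mul]
      rw [this, TensorProduct.smul_tmul, hn, TensorProduct.tmul_zero]
  exact (TensorProduct.congr (selfEquiv f) (LinearEquiv.refl A M)).toEquiv.subsingleton

end Loc

/-- Torsion objects map to zero in objects on which `f` is invertible. -/
theorem hom_eq_zero (f : A) {L Y : Dual.D A} (hL : ∀ (i : ℤ) (m : Dual.HD A L i), ∃ n : ℕ, f ^ n • m = 0)
    (hY : ∀ i, FInv (Dual.HD A Y i) f) (φ : L ⟶ Y) : φ = 0 := by
  haveI := preservesHomology_T f
  obtain ⟨J, hJ, ⟨eY⟩⟩ := KInjLib.exists_iso_kInjective Y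
  obtain ⟨K, ⟨eL⟩⟩ : ∃ K, Nonempty (DerivedCategory.Q.obj K ≅ L) :=
    ⟨_, ⟨DerivedCategory.Q.objObjPreimageIso L⟩⟩
  obtain ⟨g, hg⟩ := KInjLib.exists_map_eq (eL.hom ≫ φ ≫ eY.hom)
  let FX := (T f).mapHomologicalComplex (ComplexShape.up ℤ)
  let u : ∀ C : DRing.Cx A, C ⟶ FX.obj C := fun C =>
    { f := fun n => (η f).app (C.X n)
      comm' := fun i j _ => ((η f).naturality (C.d i j)).symm }
  have hu : g ≫ u J = u K ≫ FX.map g := HomologicalComplex.hom_ext _ _ fun n => (η f).naturality (g.f n)
  have hz : IsZero (DerivedCategory.Q.obj (FX.obj K)) := by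
    refine DerNull9.isZero_Q_of_isZero_homology _ fun n => ?_
    refine IsZero.of_iso (isZero_T f fun m => ?_) ((K.sc n).mapHomologyIso (T f))
    let e := (DMod.HH n).mapIso eL.symm ≪≫ (DerivedCategory.homologyFunctorFactors (ModuleCat.{u} A) n).app K
    obtain ⟨x, rfl⟩ := e.toLinearEquiv.surjective m
    obtain ⟨k, hk⟩ := hL n x
    exact ⟨k, ((map_smul e.toLinearEquiv _ x).symm.trans (congrArg _ hk)).trans (map_zero e.toLinearEquiv)⟩
  haveI : QuasiIso (u J) := ⟨fun n => (quasiIsoAt_iff_isIso_homologyMap _ n).2 (by
    have hH : FInv (J.homology n) f := (hY n).of_linearEquiv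
      ((DMod.HH n).mapIso eY ≪≫ (DerivedCategory.homologyFunctorFactors (ModuleCat.{u} A) n).app J).toLinearEquiv
    have h1 : IsIso ((η f).app (J.sc n).homology) := bijective_η f hH
    rw [NatTrans.app_homology (η f) (J.sc n)] at h1
    have h2 : IsIso (ShortComplex.homologyMap ((J.sc n).mapNatTrans (η f)) ≫
        ((J.sc n).mapHomologyIso (T f)).hom) :=
      IsIso.of_isIso_comp_left ((J.sc n).mapHomologyIso (𝟭 _)).inv _
    exact IsIso.of_isIso_comp_right (ShortComplex.homologyMap ((J.sc n).mapNatTrans (η f)))
      ((J.sc n).mapHomologyIso (T f)).hom)⟩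
  have h0 : DerivedCategory.Q.map g = 0 := by
    rw [← cancel_mono (DerivedCategory.Q.map (u J)), zero_comp, ← Functor.map_comp, hu, Functor.map_comp,
      hz.eq_of_tgt (DerivedCategory.Q.map (u K)) 0, zero_comp]
  rw [hg] at h0
  rwa [Preadditive.IsIso.comp_left_eq_zero, Preadditive.IsIso.comp_right_eq_zero] at h0

/-- Dropping one localisation does not change maps out of torsion objects. -/
theorem bijective_fst {g : A} {K E : DRing.Cx A} (φ : K ⟶ E)
    (hE : ∀ i, Function.Bijective fun x : E.X i => g • x) {L : Dual.D A}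
    (hL : ∀ (i : ℤ) (m : Dual.HD A L i), ∃ n : ℕ, g ^ n • m = 0) :
    Function.Bijective (fun f : L ⟶ DerivedCategory.Q.obj (CochainComplex.mappingCocone φ) =>
      f ≫ DerivedCategory.Q.map (CochainComplex.mappingCocone.fst φ)) := by
  have hT := DerivedCategory.mappingCocone_triangle_distinguished φ
  set T := DerivedCategory.Q.mapTriangle.obj (CochainComplex.mappingCocone.triangle φ)
  have hfinv := finv_of_termwise g E hE
  refine ⟨fun a b hab => sub_eq_zero.1 ?_, fun f => ?_⟩
  · obtain ⟨h, hh⟩ := Triangle.coyoneda_exact₂ T.invRotate (inv_rot_of_distTriang _ hT) (a - b)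
      (show (a - b) ≫ DerivedCategory.Q.map (CochainComplex.mappingCocone.fst φ) = 0 by
        rw [Preadditive.sub_comp, sub_eq_zero]; exact hab)
    refine hh.trans ((congrArg (· ≫ T.invRotate.mor₁) (hom_eq_zero g (Y := (DerivedCategory.Q.obj E)⟦(-1 : ℤ)⟧) hL
      (fun i => ?_) h)).trans zero_comp)
    exact (hfinv (-1 + i)).of_linearEquiv
      (((DMod.HH 0).shiftIso (-1) i (-1 + i) rfl).app (DerivedCategory.Q.obj E)).symm.toLinearEquiv
  · obtain ⟨h, hh⟩ := Triangle.coyoneda_exact₂ T hT f (hom_eq_zero g (Y := DerivedCategory.Q.obj E) hL hfinv _)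
    exact ⟨h, hh.symm⟩

/-- The augmentation of the extended Čech complex is universal for torsion objects. -/
theorem exists_cech_map (M : ModuleCat.{u} A) : ∀ fs : List A,
    ∃ c : DerivedCategory.Q.obj (DerCA.extCech M fs) ⟶ Dual.inD A M,
      ∀ L : Dual.D A, TorsAll fs L →
        Function.Bijective (fun f : L ⟶ DerivedCategory.Q.obj (DerCA.extCech M fs) => f ≫ c)
  | [] => by
    let e : DerivedCategory.Q.obj (DerCA.extCech M []) ≅ Dual.inD A M :=
      ((DerivedCategory.singleFunctorIsoCompQ (ModuleCat.{u} A) 0).app M).symm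
    exact ⟨e.hom, fun L _ => (e.homToEquiv).bijective⟩
  | g :: fs => by
    obtain ⟨c, hc⟩ := exists_cech_map M fs
    refine ⟨DerivedCategory.Q.map (CochainComplex.mappingCocone.fst
      (DerCA.locCxUnit (Submonoid.powers g) (DerCA.extCech M fs))) ≫ c, fun L hL => ?_⟩
    have h := (hc L fun f hf => hL f (List.mem_cons_of_mem g hf)).comp
      (bijective_fst (DerCA.locCxUnit (Submonoid.powers g) (DerCA.extCech M fs))
        (fun i => by simpa using ExtCechLib.g_bijective g (DerCA.extCech M fs) i 1) (hL g List.mem_cons_self))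
    rw [funext fun f : L ⟶ _ => (Category.assoc f _ _).symm]
    exact h

theorem torsAll_extCech (M : ModuleCat.{u} A) (fs : List A) : TorsAll fs (DerivedCategory.Q.obj (DerCA.extCech M fs)) := by
  intro g hg i m
  let e := ((DerivedCategory.homologyFunctorFactors (ModuleCat.{u} A) i).app (DerCA.extCech M fs)).toLinearEquiv
  obtain ⟨n, -, hn⟩ := ExtCechLib.exists_pow_smul_extCechH M fs i (e m)
  exact ⟨n, e.injective ((map_smul e _ m).trans ((hn g hg).trans (map_zero e).symm))⟩

end Groth.Agent.RgZ9
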